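import Groth.Agent.LengthDetLib.Local
import Mathlib.RingTheory.Ideal.KrullsHeightTheorem
import Mathlib.RingTheory.Localization.Integer
import Mathlib.RingTheory.Localization.Ideal

/-!
# Length of cokernels and determinants over an arbitrary Noetherian ring
-/

set_option autoImplicit false
set_option linter.style.haveILetI false
universe u

open Matrix

namespace LengthDetLib

variable {A : Type u} [CommRing A] [IsNoetherianRing A]

theorem ord_ne_top_iff (a : A) : Ring.ord A a ≠ ⊤ ↔ IsArtinianRing (A ⧸ Ideal.span {a}) := by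
  rw [Ring.ord, Module.length_eq_of_surjective (R := A ⧸ Ideal.span {a}) (S := A) Ideal.Quotient.mk_surjective,
    Module.length_ne_top_iff, isFiniteLength_iff_isNoetherian_isArtinian]
  exact ⟨fun h => h.2, fun h => ⟨inferInstance, h⟩⟩

theorem isArtinian_quot_of_primes {a : A}
    (h : ∀ P : Ideal A, P.IsPrime → a ∈ P → P.IsMaximal) : IsArtinianRing (A ⧸ Ideal.span {a}) := by
  rw [isArtinianRing_iff_krullDimLE_zero]
  refine Ring.KrullDimLE.mk₀ fun P hP => ?_
  haveI := hP
  have hmem : a ∈ P.comap (Ideal.Quotient.mk (Ideal.span {a})) := by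
    rw [Ideal.mem_comap, Ideal.Quotient.eq_zero_iff_mem.mpr (Ideal.mem_span_singleton_self a)]
    exact P.zero_mem
  haveI := h _ (Ideal.IsPrime.comap _) hmem
  have := Ideal.map_eq_top_or_isMaximal_of_surjective (Ideal.Quotient.mk (Ideal.span {a}))
    Ideal.Quotient.mk_surjective (I := P.comap (Ideal.Quotient.mk (Ideal.span {a}))) inferInstance
  rw [Ideal.map_comap_of_surjective _ Ideal.Quotient.mk_surjective] at this
  exact this.resolve_left hP.ne_top

theorem isMaximal_of_prime_mem {d : A} [IsArtinianRing (A ⧸ Ideal.span {d})] {P : Ideal A} (hP : P.IsPrime)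
    (hd : d ∈ P) : P.IsMaximal := by
  let f := Ideal.Quotient.mk (Ideal.span {d})
  have hle : RingHom.ker f ≤ P := by
    rw [Ideal.mk_ker, Ideal.span_le, Set.singleton_subset_iff]; exact hd
  haveI := Ideal.map_isPrime_of_surjective (f := f) Ideal.Quotient.mk_surjective hle
  haveI : (P.map f).IsMaximal := IsArtinianRing.isMaximal_of_isPrime _
  have h := Ideal.comap_isMaximal_of_surjective f Ideal.Quotient.mk_surjective (K := P.map f)
  rwa [Ideal.comap_map_of_surjective f Ideal.Quotient.mk_surjective, ← RingHom.ker_eq_comap_bot, sup_eq_left.mpr hle] at h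

variable (d : A)

/-- Elements that are units modulo `d`. -/
def unitsMod : Submonoid A := (IsUnit.submonoid (A ⧸ Ideal.span {d})).comap (Ideal.Quotient.mk (Ideal.span {d}))

theorem mem_unitsMod {s : A} : s ∈ unitsMod d ↔ IsUnit (Ideal.Quotient.mk (Ideal.span {d}) s) := Iff.rfl

/-- The semilocalization at `d`. -/
abbrev SL : Type u := Localization (unitsMod d)

theorem mem_maximal (m : Ideal (SL d)) (hm : m.IsMaximal) : algebraMap A (SL d) d ∈ m := by
  by_contra hd
  have h1 : (1 : SL d) ∈ Ideal.span {algebraMap A (SL d) d} ⊔ m := by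
    rw [(hm.1.2 _ (lt_of_le_of_ne le_sup_right fun h => hd (h.symm ▸ Ideal.mem_sup_left (Ideal.mem_span_singleton_self _))))]
    trivial
  obtain ⟨x, hx, y, hy, hxy⟩ := Submodule.mem_sup.mp h1
  obtain ⟨w, rfl⟩ := Ideal.mem_span_singleton'.mp hx
  obtain ⟨r, s, rfl⟩ := IsLocalization.exists_mk'_eq (unitsMod d) w
  have hu : (s : A) - r * d ∈ unitsMod d := by
    rw [mem_unitsMod, map_sub, map_mul, Ideal.Quotient.eq_zero_iff_mem.mpr (Ideal.mem_span_singleton_self d),
      mul_zero, sub_zero]
    exact s.2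
  have : IsUnit y := by
    have hy' : y = IsLocalization.mk' (SL d) ((s : A) - r * d) s := by
      rw [IsLocalization.eq_mk'_iff_mul_eq, map_sub, map_mul, eq_sub_of_add_eq' hxy, sub_mul, one_mul,
        mul_right_comm, IsLocalization.mk'_spec]
    rw [hy', IsLocalization.mk'_eq_mul_mk'_one]
    exact (IsLocalization.map_units (SL d) ⟨_, hu⟩).mul
      (IsUnit.of_mul_eq_one (algebraMap A (SL d) s) (by rw [IsLocalization.mk'_spec, map_one]))
  exact hm.ne_top (Ideal.eq_top_of_isUnit_mem _ hy this)

theorem ord_ne_top_SL (hd : Ring.ord A d ≠ ⊤) :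
    ∀ a ∈ nonZeroDivisors (SL d), Ring.ord (SL d) a ≠ ⊤ := by
  haveI : IsNoetherianRing (SL d) := IsLocalization.isNoetherianRing (unitsMod d) (SL d) inferInstance
  haveI := (ord_ne_top_iff d).mp hd
  have hmax : ∀ P : Ideal (SL d), P.IsPrime → algebraMap A (SL d) d ∈ P → P.IsMaximal := by
    intro P hP hdP
    haveI := hP
    have hc : (P.comap (algebraMap A (SL d))).IsMaximal := isMaximal_of_prime_mem (Ideal.IsPrime.comap _) hdP
    obtain ⟨m, hm, hle⟩ := Ideal.exists_le_maximal P hP.ne_top
    have h2 : m.comap (algebraMap A (SL d)) = P.comap (algebraMap A (SL d)) :=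
      (hc.eq_of_le (Ideal.IsPrime.comap (algebraMap A (SL d))).ne_top (Ideal.comap_mono hle)).symm
    have h3 := congrArg (Ideal.map (algebraMap A (SL d))) h2
    rw [IsLocalization.map_under (unitsMod d) (SL d), IsLocalization.map_under (unitsMod d) (SL d)] at h3
    exact h3 ▸ hm
  intro a ha
  refine (ord_ne_top_iff a).mpr (isArtinian_quot_of_primes fun P hP haP => ?_)
  haveI := hP
  obtain ⟨m, hm, hle⟩ := Ideal.exists_le_maximal P hP.ne_top
  by_cases hdP : algebraMap A (SL d) d ∈ P
  · exact hmax P hP hdP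
  by_contra hPm
  have hlt : P < m := lt_of_le_of_ne hle fun h => hPm (h ▸ hm)
  haveI := hm.isPrime
  have hmin : m ∈ (Ideal.span {algebraMap A (SL d) d}).minimalPrimes := by
    refine ⟨⟨hm.isPrime, (Ideal.span_singleton_le_iff_mem _).mpr (mem_maximal d m hm)⟩, fun q hq hqm => ?_⟩
    exact ((hmax q hq.1 ((Ideal.span_singleton_le_iff_mem _).mp hq.2)).eq_of_le hm.ne_top hqm).ge
  have h1 := Ideal.height_le_one_of_isPrincipal_of_mem_minimalPrimes _ m hmin
  have h2 := (Ideal.height_add_one_le_of_lt_of_isPrime hlt).trans h1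
  have h0 : P.height = 0 := by
    by_contra h0
    have h3 : (1 : ℕ∞) ≤ P.height := Order.one_le_iff_pos.mpr (pos_iff_ne_zero.mpr h0)
    have h4 := (add_le_add h3 (le_refl (1 : ℕ∞))).trans h2
    exact absurd h4 (by decide)
  exact Set.disjoint_left.mp
    (Ideal.disjoint_nonZeroDivisors_of_mem_minimalPrimes (Ideal.height_eq_zero_iff.mp h0)) haP ha

variable {n : ℕ} (G : Matrix (Fin n) (Fin n) A)

omit [IsNoetherianRing A] in
theorem det_smul_mem (v : Fin n → A) : G.det • v ∈ LinearMap.range G.mulVecLin :=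
  ⟨G.adjugate *ᵥ v, by simp [Matrix.mulVec_mulVec, Matrix.mul_adjugate, Matrix.smul_mulVec]⟩

/-- The length of the cokernel only depends on the semilocalization. -/
theorem cl_localization :
    cl G = cl (G.map (algebraMap A (SL G.det))) := by
  classical
  let B := SL G.det
  let f := algebraMap A B
  let G' := G.map f
  let T := LinearMap.range G.mulVecLin
  let T' := LinearMap.range G'.mulVecLin
  let α : (Fin n → A) →ₗ[A] (Fin n → B) := (Algebra.linearMap A B).compLeft (Fin n)
  have hα : ∀ v, α v = f ∘ v := fun v => rfl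
  have hGα : ∀ v, G' *ᵥ α v = α (G *ᵥ v) := fun v => by
    rw [hα, hα]
    exact funext fun i => (RingHom.map_mulVec f G v i).symm
  let q : (Fin n → A) →ₗ[A] ((Fin n → B) ⧸ T') := (T'.mkQ.restrictScalars A) ∘ₗ α
  have hker : LinearMap.ker q = T := by
    ext v
    constructor
    · intro hv
      obtain ⟨w, hw⟩ := (Submodule.Quotient.mk_eq_zero T').mp hv
      obtain ⟨b, hb⟩ := IsLocalization.exist_integer_multiples_of_finite (unitsMod G.det) w
      choose u hu using hb
      have h1 : α (G *ᵥ u) = α ((b : A) • v) := by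
        rw [← hGα, map_smul, show α u = (b : A) • w from funext fun i => hu i, ← hw]
        exact Matrix.mulVec_smul G' (b : A) w
      have h2 : ∀ i, ∃ c : unitsMod G.det, (c : A) * (G *ᵥ u) i = c * ((b : A) • v) i := fun i =>
        (IsLocalization.eq_iff_exists (unitsMod G.det) B).mp (congrFun h1 i)
      choose c hc using h2
      let t : unitsMod G.det := (∏ i, c i) * b
      have htv : (t : A) • v ∈ T := by
        refine ⟨((∏ i, c i : unitsMod G.det) : A) • u, ?_⟩
        change G *ᵥ _ = _
        rw [Matrix.mulVec_smul, Submonoid.coe_mul, mul_smul]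
        funext i
        obtain ⟨r, hr⟩ : (c i : A) ∣ ((∏ i, c i : unitsMod G.det) : A) := by
          rw [Submonoid.coe_finsetProd]; exact Finset.dvd_prod_of_mem _ (Finset.mem_univ i)
        simp only [Pi.smul_apply, smul_eq_mul] at hc ⊢
        rw [hr, mul_comm (c i : A) r, mul_assoc, mul_assoc, hc i]
      obtain ⟨t', ht'⟩ := isUnit_iff_exists_inv.mp t.2
      obtain ⟨t'', rfl⟩ := Ideal.Quotient.mk_surjective t'
      rw [← map_mul, ← map_one (Ideal.Quotient.mk (Ideal.span {G.det})), Ideal.Quotient.mk_eq_mk_iff_sub_mem,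
        Ideal.mem_span_singleton'] at ht'
      obtain ⟨e, he⟩ := ht'
      have hv' : v = t'' • ((t : A) • v) - e • (G.det • v) := by
        rw [← mul_smul, ← mul_smul, ← sub_smul, he]
        conv_lhs => rw [← one_smul A v]
        congr 1
        ring
      rw [hv']
      exact T.sub_mem (T.smul_mem _ htv) (T.smul_mem _ (det_smul_mem G v))
    · rintro ⟨u, rfl⟩
      exact (Submodule.Quotient.mk_eq_zero T').mpr ⟨α u, hGα u⟩
  have hsur : Function.Surjective q := by
    intro z
    obtain ⟨w, rfl⟩ := Submodule.Quotient.mk_surjective _ z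
    obtain ⟨b, hb⟩ := IsLocalization.exist_integer_multiples_of_finite (unitsMod G.det) w
    choose u hu using hb
    obtain ⟨t', ht'⟩ := isUnit_iff_exists_inv.mp b.2
    obtain ⟨t'', rfl⟩ := Ideal.Quotient.mk_surjective t'
    rw [← map_mul, ← map_one (Ideal.Quotient.mk (Ideal.span {G.det})), Ideal.Quotient.mk_eq_mk_iff_sub_mem,
      Ideal.mem_span_singleton'] at ht'
    obtain ⟨e, he⟩ := ht'
    refine ⟨t'' • u, (Submodule.Quotient.eq T').mpr ?_⟩
    have hdet : f G.det = G'.det := by rw [RingHom.map_det, RingHom.mapMatrix_apply]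
    have h1 : α (t'' • u) - w = f e • (G'.det • w) := by
      rw [← hdet, ← mul_smul, ← map_mul, he, map_smul, show α u = (b : A) • w from funext fun i => hu i,
        ← mul_smul, map_sub, map_one, sub_smul, one_smul, algebraMap_smul, mul_comm]
    rw [h1]
    exact T'.smul_mem _ (det_smul_mem G' w)
  let e : ((Fin n → A) ⧸ T) ≃ₗ[A] ((Fin n → B) ⧸ T') :=
    (Submodule.quotEquivOfEq T _ hker.symm).trans (q.quotKerEquivOfSurjective hsur)
  rw [cl, e.length_eq]
  -- `A → B` is surjective modulo the determinant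
  let I : Ideal B := Ideal.span {f G.det}
  have hkill : Module.IsTorsionBySet B ((Fin n → B) ⧸ T') (I : Set B) := by
    intro z a
    obtain ⟨w, rfl⟩ := Submodule.Quotient.mk_surjective _ z
    obtain ⟨c, hc⟩ := Ideal.mem_span_singleton'.mp a.2
    rw [show (a : B) = c * f G.det from hc.symm, RingHom.map_det, RingHom.mapMatrix_apply, mul_smul,
      ← Submodule.Quotient.mk_smul, (Submodule.Quotient.mk_eq_zero T').mpr (det_smul_mem G' w), smul_zero]
  letI := hkill.module
  haveI : IsScalarTower B (B ⧸ I) ((Fin n → B) ⧸ T') := hkill.isScalarTower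
  haveI : IsScalarTower A (B ⧸ I) ((Fin n → B) ⧸ T') := ⟨fun a b z => by
    obtain ⟨b, rfl⟩ := Ideal.Quotient.mk_surjective b
    obtain ⟨z, rfl⟩ := Submodule.Quotient.mk_surjective _ z
    change Ideal.Quotient.mk I (a • b) • (Submodule.Quotient.mk (p := T') z) = a • Ideal.Quotient.mk I b • Submodule.Quotient.mk z
    rw [hkill.mk_smul, hkill.mk_smul]
    exact smul_assoc a b _⟩
  have hsurA : Function.Surjective (algebraMap A (B ⧸ I)) := by
    intro z
    obtain ⟨w, rfl⟩ := Ideal.Quotient.mk_surjective z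
    obtain ⟨r, s, rfl⟩ := IsLocalization.exists_mk'_eq (unitsMod G.det) w
    obtain ⟨t', ht'⟩ := isUnit_iff_exists_inv.mp s.2
    obtain ⟨t'', rfl⟩ := Ideal.Quotient.mk_surjective t'
    rw [← map_mul, ← map_one (Ideal.Quotient.mk (Ideal.span {G.det})), Ideal.Quotient.mk_eq_mk_iff_sub_mem,
      Ideal.mem_span_singleton'] at ht'
    obtain ⟨e, he⟩ := ht'
    refine ⟨r * t'', (Ideal.Quotient.mk_eq_mk_iff_sub_mem _ _).mpr (Ideal.mem_span_singleton'.mpr ?_)⟩
    refine ⟨f e * IsLocalization.mk' B r s, ?_⟩
    rw [mul_right_comm, ← map_mul, he, map_sub, map_mul, map_one, sub_mul, one_mul, mul_right_comm,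
      IsLocalization.mk'_spec', ← map_mul]
  rw [Module.length_eq_of_surjective (R := B ⧸ I) (S := A) hsurA,
    ← Module.length_eq_of_surjective (R := B ⧸ I) (S := B) Ideal.Quotient.mk_surjective]

theorem cl_eq_top (hG : Ring.ord A G.det = ⊤) : cl G = ⊤ := by
  classical
  by_contra hne
  let T := LinearMap.range G.mulVecLin
  let M := (Fin n → A) ⧸ T
  let J : Ideal A := Module.annihilator A M
  refine (ord_ne_top_iff G.det).mpr ?_ hG
  refine isArtinian_quot_of_primes fun P hP hdP => ?_
  haveI := hP
  have hJP : J ≤ P := by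
    intro a ha
    -- `a • 1 = G * W`
    have h1 : ∀ j, ∃ w, G *ᵥ w = Pi.single j a := fun j => by
      have h := Module.mem_annihilator.mp ha (Submodule.Quotient.mk (Pi.single j 1))
      rw [← Submodule.Quotient.mk_smul, Submodule.Quotient.mk_eq_zero] at h
      obtain ⟨w, hw⟩ := h
      exact ⟨w, hw.trans (by rw [← Pi.single_smul', smul_eq_mul, mul_one])⟩
    choose W hW using h1
    have h2 : G * Matrix.of (fun i j => W j i) = a • (1 : Matrix (Fin n) (Fin n) A) := by
      ext i j
      have := congrFun (hW j) i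
      simp only [Matrix.mulVec, dotProduct] at this
      simp [Matrix.mul_apply, this, Matrix.one_apply, Pi.single_apply]
    have h3 := congrArg Matrix.det h2
    rw [Matrix.det_mul, Matrix.det_smul, Matrix.det_one, mul_one, Fintype.card_fin] at h3
    have h4 : a ^ n ∈ P := h3 ▸ P.mul_mem_right _ hdP
    exact hP.mem_of_pow_mem n h4
  haveI hM : IsFiniteLength A M := Module.length_ne_top_iff.mp hne
  haveI : IsArtinian A M := (isFiniteLength_iff_isNoetherian_isArtinian.mp hM).2
  let ev : (A ⧸ J) →ₗ[A] (Fin n → M) := Submodule.liftQ J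
    (LinearMap.pi fun i => LinearMap.toSpanSingleton A M (Submodule.Quotient.mk (Pi.single i 1)))
    fun a ha => funext fun i => by simpa using Module.mem_annihilator.mp ha (Submodule.Quotient.mk (Pi.single i 1))
  have hev : Function.Injective ev := by
    rw [← LinearMap.ker_eq_bot]
    refine Submodule.ker_liftQ_eq_bot _ _ _ fun a ha => Module.mem_annihilator.mpr fun m => ?_
    obtain ⟨v, rfl⟩ := Submodule.Quotient.mk_surjective _ m
    rw [pi_eq_sum_univ' v, ← Submodule.mkQ_apply, map_sum, Finset.smul_sum]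
    refine Finset.sum_eq_zero fun i _ => ?_
    rw [map_smul, smul_comm]
    exact (congrArg (v i • ·) (congrFun (LinearMap.mem_ker.mp ha) i)).trans (smul_zero _)
  haveI : IsArtinian A (A ⧸ J) := isArtinian_of_injective ev hev
  haveI : IsArtinianRing (A ⧸ J) := isArtinian_of_tower A inferInstance
  have hker : RingHom.ker (Ideal.Quotient.mk J) ≤ P := by rw [Ideal.mk_ker]; exact hJP
  haveI := Ideal.map_isPrime_of_surjective (f := Ideal.Quotient.mk J) Ideal.Quotient.mk_surjective hker
  haveI : (P.map (Ideal.Quotient.mk J)).IsMaximal := IsArtinianRing.isMaximal_of_isPrime _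
  have h := Ideal.comap_isMaximal_of_surjective (Ideal.Quotient.mk J) Ideal.Quotient.mk_surjective
    (K := P.map (Ideal.Quotient.mk J))
  rwa [Ideal.comap_map_of_surjective _ Ideal.Quotient.mk_surjective, ← RingHom.ker_eq_comap_bot,
    sup_eq_left.mpr hker] at h

theorem cl_eq_ord' (hG : G.det ∈ nonZeroDivisors A) : cl G = Ring.ord A G.det := by
  by_cases hd : Ring.ord A G.det = ⊤
  · rw [hd, cl_eq_top G hd]
  haveI : IsNoetherianRing (SL G.det) := IsLocalization.isNoetherianRing (unitsMod G.det) _ inferInstance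
  let f := algebraMap A (SL G.det)
  have hdet : (G.map f).det = f G.det := by rw [RingHom.map_det, RingHom.mapMatrix_apply]
  have hnz : (G.map f).det ∈ nonZeroDivisors (SL G.det) := by
    rw [hdet]
    exact IsLocalization.map_nonZeroDivisors_le (unitsMod G.det) (SL G.det) ⟨_, hG, rfl⟩
  let g : Matrix (Fin 1) (Fin 1) A := Matrix.of fun _ _ => G.det
  rw [cl_localization G, cl_eq_ord (ord_ne_top_SL G.det hd) n _ hnz, hdet]
  have hg : g.det = G.det := by simp [g]
  have h1 : cl g = Ring.ord A G.det := by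
    rw [cl_upper g (fun i => i.elim0) (by rw [Matrix.det_fin_zero]; exact one_mem _),
      cl_of_isUnit_det (tailM g) (by rw [Matrix.det_fin_zero]; exact isUnit_one), add_zero]
    rfl
  have h2 := cl_localization g
  have hd' : (g.map (algebraMap A (SL g.det))).det = algebraMap A (SL g.det) g.det := by
    rw [RingHom.map_det, RingHom.mapMatrix_apply]
  haveI : IsNoetherianRing (SL g.det) := IsLocalization.isNoetherianRing (unitsMod g.det) _ inferInstance
  rw [cl_eq_ord (ord_ne_top_SL g.det (by rw [hg]; exact hd)) 1 _ (by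
    rw [hd', hg]
    exact IsLocalization.map_nonZeroDivisors_le (unitsMod G.det) (SL G.det) ⟨_, hG, rfl⟩), hd', h1] at h2
  rw [h2]
  clear_value g
  subst_vars
  rw [hg]

end LengthDetLib
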