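import Mathlib.RingTheory.OrderOfVanishing.Basic
import Mathlib.RingTheory.Ideal.AssociatedPrime.Finiteness
import Mathlib.LinearAlgebra.Matrix.NonsingularInverse
import Mathlib.LinearAlgebra.Matrix.ToLin

/-!
# Length of the cokernel of a matrix and the order of its determinant
-/

set_option autoImplicit false
universe u

open Matrix

namespace LengthDetLib

variable {A : Type u} [CommRing A]

/-- The length of the cokernel of a matrix. -/
noncomputable abbrev cl {n : ℕ} (G : Matrix (Fin n) (Fin n) A) : ℕ∞ :=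
  Module.length A ((Fin n → A) ⧸ LinearMap.range G.mulVecLin)

theorem injective_mulVec {n : ℕ} (G : Matrix (Fin n) (Fin n) A) (h : G.det ∈ nonZeroDivisors A) :
    Function.Injective G.mulVecLin := by
  refine (injective_iff_map_eq_zero _).mpr fun v hv => ?_
  have h1 : G.det • v = 0 := by
    have h2 := congrArg (G.adjugate *ᵥ ·) (show G *ᵥ v = 0 from hv)
    simpa [Matrix.mulVec_mulVec, Matrix.adjugate_mul, Matrix.smul_mulVec] using h2
  funext i
  exact mem_nonZeroDivisors_iff_right.mp h _ (by simpa [mul_comm] using congrFun h1 i)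

theorem cl_mul {n : ℕ} (G H : Matrix (Fin n) (Fin n) A) (hG : G.det ∈ nonZeroDivisors A) :
    cl (G * H) = cl H + cl G := by
  let S := LinearMap.range H.mulVecLin
  let T := LinearMap.range (G * H).mulVecLin
  let U := LinearMap.range G.mulVecLin
  have hTU : T ≤ U := by
    rintro _ ⟨v, rfl⟩
    exact ⟨H *ᵥ v, by simp [Matrix.mulVec_mulVec]⟩
  refine Module.length_eq_add_of_exact (Submodule.mapQ S T G.mulVecLin ?_) (Submodule.factor hTU) ?_
    (Submodule.factor_surjective hTU) ?_
  · rintro _ ⟨v, rfl⟩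
    exact ⟨v, by simp [Matrix.mulVec_mulVec]⟩
  · rw [injective_iff_map_eq_zero]
    intro q
    obtain ⟨v, rfl⟩ := Submodule.Quotient.mk_surjective _ q
    intro hv
    rw [Submodule.mapQ_apply, Submodule.Quotient.mk_eq_zero] at hv
    obtain ⟨w, hw⟩ := hv
    refine (Submodule.Quotient.mk_eq_zero _).mpr ⟨w, injective_mulVec G hG ?_⟩
    simpa [Matrix.mulVec_mulVec] using hw
  · intro q
    obtain ⟨v, rfl⟩ := Submodule.Quotient.mk_surjective _ q
    constructor
    · intro hv
      obtain ⟨w, hw⟩ := (Submodule.Quotient.mk_eq_zero U).mp hv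
      exact ⟨Submodule.Quotient.mk w, by rw [Submodule.mapQ_apply, hw]; rfl⟩
    · rintro ⟨p, hp⟩
      obtain ⟨w, rfl⟩ := Submodule.Quotient.mk_surjective _ p
      rw [← hp]
      exact (Submodule.Quotient.mk_eq_zero U).mpr ⟨w, rfl⟩

theorem cl_of_isUnit_det {n : ℕ} (G : Matrix (Fin n) (Fin n) A) (h : IsUnit G.det) : cl G = 0 := by
  rw [cl, Module.length_eq_zero_iff]
  refine Submodule.Quotient.subsingleton_iff.mpr (eq_top_iff.mpr fun v _ => ⟨G⁻¹ *ᵥ v, ?_⟩)
  simp [Matrix.mulVec_mulVec, Matrix.mul_nonsing_inv _ h]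

section Block

variable {n : ℕ} (G : Matrix (Fin (n + 1)) (Fin (n + 1)) A)

/-- The lower right block. -/
abbrev tailM : Matrix (Fin n) (Fin n) A := G.submatrix Fin.succ Fin.succ

theorem mulVec_zero_apply (v : Fin (n + 1) → A) :
    (G *ᵥ v) 0 = G 0 0 * v 0 + ∑ j : Fin n, G 0 j.succ * v j.succ := by
  simp [Matrix.mulVec, dotProduct, Fin.sum_univ_succ]

theorem mulVec_succ_apply (v : Fin (n + 1) → A) (i : Fin n) :
    (G *ᵥ v) i.succ = G i.succ 0 * v 0 + (tailM G *ᵥ fun j => v j.succ) i := by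
  simp [Matrix.mulVec, dotProduct, Fin.sum_univ_succ]

/-- Vanishing first column below the diagonal. -/
theorem det_upper (h : ∀ i : Fin n, G i.succ 0 = 0) : G.det = G 0 0 * (tailM G).det := by
  rw [Matrix.det_succ_column_zero, Finset.sum_eq_single 0]
  · simp [tailM, Fin.succAbove_zero]
  · intro i _ hi
    obtain ⟨j, rfl⟩ := Fin.exists_succ_eq.mpr hi
    simp [h]
  · simp

/-- Vanishing first row right of the diagonal. -/
theorem det_lower (h : ∀ i : Fin n, G 0 i.succ = 0) : G.det = G 0 0 * (tailM G).det := by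
  rw [Matrix.det_succ_row_zero, Finset.sum_eq_single 0]
  · simp [tailM, Fin.succAbove_zero]
  · intro i _ hi
    obtain ⟨j, rfl⟩ := Fin.exists_succ_eq.mpr hi
    simp [h]
  · simp

theorem cl_upper (h : ∀ i : Fin n, G i.succ 0 = 0) (hM : (tailM G).det ∈ nonZeroDivisors A) :
    cl G = Ring.ord A (G 0 0) + cl (tailM G) := by
  let T := LinearMap.range G.mulVecLin
  let U := LinearMap.range (tailM G).mulVecLin
  let ι : A →ₗ[A] (Fin (n + 1) → A) := LinearMap.single A (fun _ => A) 0
  let π : (Fin (n + 1) → A) →ₗ[A] (Fin n → A) := LinearMap.funLeft A A Fin.succ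
  have h1 : Ideal.span {G 0 0} ≤ T.comap ι := by
    rw [Ideal.span_le, Set.singleton_subset_iff]
    refine ⟨Pi.single 0 1, ?_⟩
    funext i
    induction i using Fin.cases <;> simp [ι, h]
  have h2 : T ≤ U.comap π := by
    rintro _ ⟨v, rfl⟩
    exact ⟨fun j : Fin n => v j.succ, funext fun i => by
      simpa [π, LinearMap.funLeft, h] using (mulVec_succ_apply G v i).symm⟩
  refine Module.length_eq_add_of_exact (Submodule.mapQ (Ideal.span {G 0 0}) T ι h1)
    (Submodule.mapQ T U π h2) ?_ ?_ ?_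
  · rw [injective_iff_map_eq_zero]
    intro q
    obtain ⟨x, rfl⟩ := Submodule.Quotient.mk_surjective _ q
    intro hx
    rw [Submodule.mapQ_apply, Submodule.Quotient.mk_eq_zero] at hx
    obtain ⟨v, hv⟩ := hx
    have hw : (fun j : Fin n => v j.succ) = 0 := injective_mulVec _ hM (by
      rw [map_zero]
      funext i
      have := congrFun hv i.succ
      simpa [mulVec_succ_apply, h, ι] using this)
    have h0 := congrFun hv 0
    have hw' : ∀ j : Fin n, v j.succ = 0 := congrFun hw
    simp [mulVec_zero_apply, hw', ι] at h0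
    exact (Submodule.Quotient.mk_eq_zero _).mpr (Ideal.mem_span_singleton.mpr ⟨v 0, h0.symm⟩)
  · intro q
    obtain ⟨y, rfl⟩ := Submodule.Quotient.mk_surjective _ q
    exact ⟨Submodule.Quotient.mk (Fin.cons 0 y), by simp [π, LinearMap.funLeft]⟩
  · intro q
    obtain ⟨v, rfl⟩ := Submodule.Quotient.mk_surjective _ q
    constructor
    · intro hv
      rw [Submodule.mapQ_apply, Submodule.Quotient.mk_eq_zero] at hv
      obtain ⟨w, hw⟩ := hv
      refine ⟨Submodule.Quotient.mk ((v - G *ᵥ Fin.cons 0 w) 0), ?_⟩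
      rw [Submodule.mapQ_apply, Submodule.Quotient.eq]
      refine ⟨-Fin.cons 0 w, funext fun i => ?_⟩
      induction i using Fin.cases with
      | zero => simp [ι, Matrix.mulVec_neg]
      | succ i =>
        have h3 := congrFun hw i
        simp [π, LinearMap.funLeft] at h3
        simp [ι, Matrix.mulVec_neg, mulVec_succ_apply, h, h3, show (fun j => -w j) = -w from rfl]
    · rintro ⟨p, hp⟩
      obtain ⟨x, rfl⟩ := Submodule.Quotient.mk_surjective _ p
      rw [← hp, Submodule.mapQ_apply, Submodule.mapQ_apply, Submodule.Quotient.mk_eq_zero]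
      exact ⟨0, funext fun i => by simp [ι, π, LinearMap.funLeft]⟩

theorem cl_lower (h : ∀ i : Fin n, G 0 i.succ = 0) (h0 : G 0 0 ∈ nonZeroDivisors A) :
    cl G = cl (tailM G) + Ring.ord A (G 0 0) := by
  let T := LinearMap.range G.mulVecLin
  let U := LinearMap.range (tailM G).mulVecLin
  let ι : (Fin n → A) →ₗ[A] (Fin (n + 1) → A) :=
    { toFun := fun y => Fin.cons 0 y
      map_add' := fun a b => funext fun i => by induction i using Fin.cases <;> simp
      map_smul' := fun c a => funext fun i => by induction i using Fin.cases <;> simp }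
  let π : (Fin (n + 1) → A) →ₗ[A] A := LinearMap.proj 0
  have h1 : U ≤ T.comap ι := by
    rintro _ ⟨w, rfl⟩
    refine ⟨Fin.cons 0 w, funext fun i => ?_⟩
    induction i using Fin.cases <;> simp [ι, mulVec_zero_apply, mulVec_succ_apply, h]
  have h2 : T ≤ Submodule.comap π (Ideal.span {G 0 0}) := by
    rintro _ ⟨v, rfl⟩
    exact Ideal.mem_span_singleton.mpr ⟨v 0, by simp [π, mulVec_zero_apply, h]⟩
  refine Module.length_eq_add_of_exact (Submodule.mapQ U T ι h1) (Submodule.mapQ T _ π h2) ?_ ?_ ?_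
  · rw [injective_iff_map_eq_zero]
    intro q
    obtain ⟨y, rfl⟩ := Submodule.Quotient.mk_surjective _ q
    intro hy
    rw [Submodule.mapQ_apply, Submodule.Quotient.mk_eq_zero] at hy
    obtain ⟨v, hv⟩ := hy
    have hv0 : v 0 = 0 := by
      have := congrFun hv 0
      simp [ι, mulVec_zero_apply, h] at this
      exact mem_nonZeroDivisors_iff_left.mp h0 _ this
    refine (Submodule.Quotient.mk_eq_zero _).mpr ⟨fun j => v j.succ, funext fun i => ?_⟩
    have := congrFun hv i.succ
    simp [ι, mulVec_succ_apply, hv0] at this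
    simpa using this
  · intro q
    obtain ⟨x, rfl⟩ := Submodule.Quotient.mk_surjective _ q
    exact ⟨Submodule.Quotient.mk (Pi.single 0 x), by simp [π]⟩
  · intro q
    obtain ⟨v, rfl⟩ := Submodule.Quotient.mk_surjective _ q
    constructor
    · intro hv
      rw [Submodule.mapQ_apply, Submodule.Quotient.mk_eq_zero, Ideal.mem_span_singleton] at hv
      obtain ⟨c, hc⟩ := hv
      refine ⟨Submodule.Quotient.mk (fun i => (v - G *ᵥ Pi.single 0 c) i.succ), ?_⟩
      rw [Submodule.mapQ_apply, Submodule.Quotient.eq]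
      refine ⟨-Pi.single 0 c, funext fun i => ?_⟩
      induction i using Fin.cases with
      | zero =>
        simp [π] at hc
        simp [ι, Matrix.mulVec_neg, mulVec_zero_apply, h, hc]
      | succ i => simp [ι, Matrix.mulVec_neg]
    · rintro ⟨p, hp⟩
      obtain ⟨y, rfl⟩ := Submodule.Quotient.mk_surjective _ p
      rw [← hp, Submodule.mapQ_apply, Submodule.mapQ_apply, Submodule.Quotient.mk_eq_zero]
      simp [ι, π]

end Block

/-- Coset prime avoidance. -/
theorem exists_add_notMem (s : Finset (Ideal A)) (hs : ∀ p ∈ s, p.IsPrime) (x : A) (J : Ideal A)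
    (h : ∀ p ∈ s, ¬ Ideal.span {x} ⊔ J ≤ p) : ∃ y ∈ J, ∀ p ∈ s, x + y ∉ p := by
  classical
  let m := s.filter fun p => ∀ q ∈ s, p ≤ q → q = p
  have hm : ∀ p ∈ s, ∃ q ∈ m, p ≤ q := fun p hp => by
    obtain ⟨q, hq, hmax⟩ := (s.filter fun q => p ≤ q).exists_maximal ⟨p, Finset.mem_filter.mpr ⟨hp, le_rfl⟩⟩
    obtain ⟨hqs, hpq⟩ := Finset.mem_filter.mp hq
    exact ⟨q, Finset.mem_filter.mpr ⟨hqs, fun r hr hqr =>
      (le_antisymm hqr (hmax (Finset.mem_filter.mpr ⟨hr, hpq.trans hqr⟩) hqr)).symm⟩, hpq⟩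
  let s1 := m.filter fun p => x ∈ p
  let s0 := m.filter fun p => x ∉ p
  let K := J * ∏ q ∈ s0, q
  have hK : ∀ p ∈ s1, ¬ K ≤ p := by
    intro p hp hle
    obtain ⟨hpm, hxp⟩ := Finset.mem_filter.mp hp
    obtain ⟨hps, hpmax⟩ := Finset.mem_filter.mp hpm
    rcases (hs p hps).mul_le.mp hle with h1 | h1
    · exact h p hps (sup_le ((Ideal.span_singleton_le_iff_mem _).mpr hxp) h1)
    · obtain ⟨q, hq, hqp⟩ := (hs p hps).prod_le.mp h1
      obtain ⟨hqm, hxq⟩ := Finset.mem_filter.mp hq
      obtain ⟨hqs, hqmax⟩ := Finset.mem_filter.mp hqm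
      exact hxq (hqmax p hps hqp ▸ hxp)
  obtain ⟨y, hyK, hy⟩ : ∃ y ∈ K, ∀ p ∈ s1, y ∉ p := by
    by_contra hc
    push Not at hc
    have hsub : (K : Set A) ⊆ ⋃ p ∈ (↑s1 : Set (Ideal A)), (p : Set A) := fun y hy => by
      obtain ⟨p, hp, hyp⟩ := hc y hy
      exact Set.mem_iUnion₂.mpr ⟨p, hp, hyp⟩
    have hpr : ∀ p ∈ s1, p ≠ (⊥ : Ideal A) → p ≠ (⊥ : Ideal A) → (id p).IsPrime :=
      fun p hp _ _ => hs p (Finset.mem_filter.mp (Finset.mem_filter.mp hp).1).1
    obtain ⟨p, hp, hle⟩ := (Ideal.subset_union_prime (s := s1) (f := id) (⊥ : Ideal A) (⊥ : Ideal A) hpr).mp hsub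
    exact hK p hp hle
  have hyK' : y ∈ J ⊓ ∏ q ∈ s0, q := Ideal.mul_le_inf hyK
  refine ⟨y, hyK'.1, fun p hp hxy => ?_⟩
  obtain ⟨q, hq, hpq⟩ := hm p hp
  by_cases hxq : x ∈ q
  · refine hy q (Finset.mem_filter.mpr ⟨hq, hxq⟩) ?_
    simpa using q.sub_mem (hpq hxy) hxq
  · have hyq : y ∈ q := (Ideal.prod_le_inf.trans (Finset.inf_le (show q ∈ s0 from Finset.mem_filter.mpr ⟨hq, hxq⟩)))
      hyK'.2
    exact hxq (by simpa using q.sub_mem (hpq hxy) hyq)

/-- The cokernel of a matrix with nonzerodivisor determinant has length the order of the determinant,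
for rings in which nonzerodivisors cut out finite length. -/
theorem cl_eq_ord [IsNoetherianRing A] (hfin : ∀ a ∈ nonZeroDivisors A, Ring.ord A a ≠ ⊤) :
    ∀ (n : ℕ) (G : Matrix (Fin n) (Fin n) A), G.det ∈ nonZeroDivisors A → cl G = Ring.ord A G.det
  | 0, G, _ => by
    rw [Matrix.det_fin_zero, Ring.ord_one]
    exact cl_of_isUnit_det G (by simp)
  | n + 1, G, hG => by
    classical
    -- make the corner a nonzerodivisor
    let s : Finset (Ideal A) := (associatedPrimes.finite A A).toFinset
    let J : Ideal A := Ideal.span (Set.range fun i : Fin n => G i.succ 0)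
    have hbad : ∀ p ∈ s, ¬ Ideal.span {G 0 0} ⊔ J ≤ p := by
      intro p hp hle
      have hcol : ∀ i, G i 0 ∈ p := fun i => by
        induction i using Fin.cases with
        | zero => exact hle (Ideal.mem_sup_left (Ideal.mem_span_singleton_self _))
        | succ i => exact hle (Ideal.mem_sup_right (Ideal.subset_span ⟨i, rfl⟩))
      have hd : G.det ∈ p := by
        rw [Matrix.det_succ_column_zero]
        exact Ideal.sum_mem _ fun i _ => Ideal.mul_mem_right _ _ (Ideal.mul_mem_left _ _ (hcol i))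
      have := (biUnion_associatedPrimes_eq_compl_nonZeroDivisors A).le
        (Set.mem_iUnion₂.mpr ⟨p, (associatedPrimes.finite A A).mem_toFinset.mp hp, hd⟩)
      exact this hG
    obtain ⟨y, hyJ, hy⟩ := exists_add_notMem s
      (fun p hp => ((associatedPrimes.finite A A).mem_toFinset.mp hp).isPrime) _ J hbad
    obtain ⟨c, hc⟩ := (Ideal.mem_span_range_iff_exists_fun).mp hyJ
    let a := G 0 0 + y
    have ha : a ∈ nonZeroDivisors A := by
      by_contra hna
      obtain ⟨p, hp, hap⟩ := Set.mem_iUnion₂.mp ((biUnion_associatedPrimes_eq_compl_nonZeroDivisors A).ge hna)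
      exact hy p ((associatedPrimes.finite A A).mem_toFinset.mpr hp) hap
    let E : Matrix (Fin (n + 1)) (Fin (n + 1)) A :=
      Matrix.of fun i j => Fin.cases (Fin.cases 1 c j) (fun i' => if j = i'.succ then 1 else 0) i
    have hE : E.det = 1 := by
      rw [det_upper E (fun i => by simp [E, (Fin.succ_ne_zero i).symm])]
      have : tailM E = 1 := by
        ext i j
        simp [tailM, E, Matrix.one_apply, Fin.succ_inj, eq_comm]
      simp [this, E]
    let H := E * G
    have hH0 : H 0 0 = a := by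
      simp [H, Matrix.mul_apply, Fin.sum_univ_succ, E, a, ← hc]
    have hHdet : H.det = G.det := by rw [Matrix.det_mul, hE, one_mul]
    have hHcl : cl H = cl G := by
      rw [cl_mul E G (by rw [hE]; exact one_mem _), cl_of_isUnit_det E (by rw [hE]; exact isUnit_one), add_zero]
    let D : Matrix (Fin (n + 1)) (Fin (n + 1)) A :=
      Matrix.of fun i j => Fin.cases (if j = 0 then 1 else 0)
        (fun i' => Fin.cases (-H i'.succ 0) (fun j' => if j' = i' then a else 0) j) i
    have hD0 : ∀ i : Fin n, D 0 i.succ = 0 := fun i => by simp [D, Fin.succ_ne_zero i]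
    have hDdet : D.det = a ^ n := by
      rw [det_lower D hD0]
      have : tailM D = a • (1 : Matrix (Fin n) (Fin n) A) := by
        ext i j
        simp [tailM, D, Matrix.one_apply, eq_comm]
      simp [this, D, Matrix.det_smul]
    have hDn : D.det ∈ nonZeroDivisors A := hDdet ▸ pow_mem ha n
    have hDtail : (tailM D).det = D.det := by rw [det_lower D hD0]; simp [D]
    have hDcl : cl D = Ring.ord A D.det := by
      rw [cl_lower D hD0 (by simp [D]), cl_eq_ord hfin n (tailM D) (hDtail ▸ hDn), hDtail]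
      simp [D]
    let P := D * H
    have hP0 : ∀ i : Fin n, P i.succ 0 = 0 := fun i => by
      simp [P, Matrix.mul_apply, Fin.sum_univ_succ, D, hH0]
      ring
    have hP00 : P 0 0 = a := by
      simp [P, Matrix.mul_apply, Fin.sum_univ_succ, D, hH0]
    have hPdet : P.det = D.det * G.det := by rw [Matrix.det_mul, hHdet]
    have hPn : P.det ∈ nonZeroDivisors A := hPdet ▸ mul_mem hDn hG
    have hPtail : (tailM P).det ∈ nonZeroDivisors A := by
      rw [det_upper P hP0] at hPn
      exact (mul_mem_nonZeroDivisors.mp hPn).2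
    have h1 : cl P = cl G + Ring.ord A D.det := by rw [cl_mul D H hDn, hHcl, hDcl]
    have h2 : cl P = Ring.ord A P.det := by
      rw [cl_upper P hP0 hPtail, cl_eq_ord hfin n (tailM P) hPtail, det_upper P hP0,
        Ring.ord_mul A hPtail]
    rw [hPdet, Ring.ord_mul A hG, h1, add_comm (Ring.ord A D.det)] at h2
    exact (ENat.add_left_injective_of_ne_top (hfin _ hDn)) h2

end LengthDetLib
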